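import Mathlib

/-!
# Commutativity criteria through a central subgroup of small index
-/

set_option autoImplicit false
set_option linter.style.haveILetI false

namespace CfsgLib.Group

open scoped commutatorElement

/-- A group with a central subgroup of index dividing a prime is commutative. -/
theorem mul_comm_of_index_dvd_prime {A : Type*} [_root_.Group A] [Finite A] {p : ℕ} [hp : Fact p.Prime]
    (Z : Subgroup A) (hZ : Z ≤ Subgroup.center A) (h : Z.index ∣ p) (a b : A) : a * b = b * a := by
  haveI : Z.Normal := ⟨fun z hz g => by rw [Subgroup.mem_center_iff.mp (hZ hz) g, mul_inv_cancel_right]; exact hz⟩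
  rcases (Nat.dvd_prime hp.out).mp h with h1 | h1
  · rw [Subgroup.index_eq_one] at h1
    have := hZ (h1.symm ▸ Subgroup.mem_top b : b ∈ Z)
    exact (Subgroup.mem_center_iff.mp this a)
  · haveI : IsCyclic (A ⧸ Z) := isCyclic_of_prime_card (p := p) h1
    exact ((QuotientGroup.mk' Z).isMulCommutative_of_isCyclic_of_ker_le_center
      (by rw [QuotientGroup.ker_mk']; exact hZ)).is_comm.comm a b

/-- If `N` has prime index and the commutators of `N` and of `x ∉ N` with `N` lie in the normal
subgroup `J`, so do all commutators. -/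
theorem commutator_le_of_index_prime {P : Type*} [_root_.Group P] [Finite P] {p : ℕ} [hp : Fact p.Prime]
    (N J : Subgroup P) [J.Normal] (hN : N.index = p) {x : P} (hx : x ∉ N)
    (hNN : ∀ a ∈ N, ∀ b ∈ N, ⁅a, b⁆ ∈ J) (hxN : ∀ a ∈ N, ⁅x, a⁆ ∈ J) : commutator P ≤ J := by
  have hcom : ∀ a b : P, ⁅a, b⁆ ∈ J → (a : P ⧸ J) * b = b * a := by
    intro a b h
    rw [← QuotientGroup.mk_mul, ← QuotientGroup.mk_mul]
    refine (QuotientGroup.eq_iff_div_mem).mpr ?_
    rw [div_eq_mul_inv]
    simpa [commutatorElement_def, mul_assoc] using h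
  set π := QuotientGroup.mk' J
  have hcen : N.map π ≤ Subgroup.center (P ⧸ J) := by
    rintro - ⟨b, hb, rfl⟩
    rw [Subgroup.mem_center_iff]
    intro q
    obtain ⟨g, rfl⟩ := QuotientGroup.mk_surjective q
    have hc : π b ∈ Subgroup.centralizer ({π b} : Set (P ⧸ J)) := by
      rw [Subgroup.mem_centralizer_singleton_iff]
    have hK : N ⊔ Subgroup.zpowers x ≤ (Subgroup.centralizer ({π b} : Set (P ⧸ J))).comap π := by
      refine sup_le (fun a ha => ?_) (Subgroup.zpowers_le.mpr ?_) <;>
        rw [Subgroup.mem_comap, Subgroup.mem_centralizer_singleton_iff]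
      · exact hcom a b (hNN a ha b hb)
      · exact hcom x b (hxN b hb)
    have htop : N ⊔ Subgroup.zpowers x = ⊤ := by
      rw [← Subgroup.index_eq_one]
      refine ((Nat.dvd_prime hp.out).mp (hN ▸ Subgroup.index_dvd_of_le le_sup_left)).resolve_right
        fun he => hx ?_
      have hle : N ≤ N ⊔ Subgroup.zpowers x := le_sup_left
      have h2 : N ⊔ Subgroup.zpowers x = N := by
        refine (Subgroup.eq_of_le_of_card_ge hle ?_).symm
        have e1 := N.card_mul_index
        have e2 := (N ⊔ Subgroup.zpowers x).card_mul_index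
        rw [hN] at e1
        rw [he] at e2
        exact (Nat.eq_of_mul_eq_mul_right hp.out.pos (e2.trans e1.symm)).le
      rw [← h2]
      exact Subgroup.mem_sup_right (Subgroup.mem_zpowers x)
    have hg := hK (htop ▸ Subgroup.mem_top g)
    rw [Subgroup.mem_comap, Subgroup.mem_centralizer_singleton_iff] at hg
    exact hg
  have hab := mul_comm_of_index_dvd_prime (p := p) (N.map π) hcen
    (hN ▸ Subgroup.index_map_dvd _ (QuotientGroup.mk'_surjective J))
  rw [commutator_def, Subgroup.commutator_le]
  intro a _ b _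
  rw [← QuotientGroup.eq_one_iff]
  show π ⁅a, b⁆ = 1
  rw [map_commutatorElement, commutatorElement_eq_one_iff_mul_comm]
  exact hab _ _

end CfsgLib.Group
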